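import Groth.Agent.InfLiftLib.Diff
import Groth.Agent.OmegaUnivLib.Aff

/-!
The difference of two lifts as a section of the sheaf of homomorphisms from the pulled back differentials
to the conormal sheaf of the thickening.
-/

set_option autoImplicit false
set_option backward.isDefEq.respectTransparency false
set_option backward.isDefEq.respectTransparency.types false
set_option linter.style.haveILetI false

universe u

open CategoryTheory CategoryTheory.Limits AlgebraicGeometry TopologicalSpace Opposite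
open Groth.Agent.PullbackMod

noncomputable section

namespace Groth.Agent.InfLiftGenLib

open Groth.Agent.InfLiftLib

/-- A lifting problem with a chosen universal derivation of the morphism to be lifted. -/
structure GProb where
  P : Prob.{u}
  Ω : P.X.Modules
  d : OmegaSh.Der P.f Ω
  univ : OmegaSh.IsUniversal d

variable {Q : GProb.{u}}

/-- The pulled back differentials. -/
abbrev GProb.F (Q : GProb.{u}) : Q.P.T₀.Modules := (Scheme.Modules.pullback Q.P.a₀).obj Q.Ω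

/-- The sheaf of homomorphisms. -/
abbrev GProb.H (Q : GProb.{u}) : Q.P.T₀.Modules := RefHull.homSh Q.F Q.P.N

theorem isQCoh_F : Coh.IsQCoh Q.F :=
  haveI := OmegaUnivLib.isQCoh_of_universal Q.univ
  PullbackMod.isQCoh_pullback Q.P.a₀ Q.Ω

/-- Restriction of sections of the sheaf of homomorphisms. -/
abbrev rH {U U' : Q.P.T₀.Opens} (h : U' ≤ U) (s : Γ(Q.H, U)) : Γ(Q.H, U') := Q.H.presheaf.map (homOfLE h).op s

theorem rH_rH {U U' U'' : Q.P.T₀.Opens} (h : U' ≤ U) (h' : U'' ≤ U') (s : Γ(Q.H, U)) :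
    rH h' (rH h s) = rH (h'.trans h) s := by
  show (Q.H.presheaf.map _ ≫ Q.H.presheaf.map _) s = _
  rw [← Functor.map_comp]
  rfl

theorem ev_rH {U U' V : Q.P.T₀.Opens} (h : U' ≤ U) (hV : V ≤ U') (s : Γ(Q.H, U)) (m : Γ(Q.F, V)) :
    HomLib.ev (rH h s) hV m = HomLib.ev s (hV.trans h) m :=
  HomLib.ext_germ _ _ fun x hx => by rw [HomLib.germ_ev, HomLib.germ_ev]; rfl


/-- The pulled back differential of a function. -/
def GProb.dd {U₀ : Q.P.T₀.Opens} {V : Q.P.X.Opens} (e : U₀ ≤ Q.P.a₀ ⁻¹ᵁ V) (b : Γ(Q.P.X, V)) : Γ(Q.F, U₀) :=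
  pullMap Q.P.a₀ Q.Ω e (Q.d.app V b)

theorem dd_add {U₀ : Q.P.T₀.Opens} {V : Q.P.X.Opens} (e : U₀ ≤ Q.P.a₀ ⁻¹ᵁ V) (b c : Γ(Q.P.X, V)) :
    Q.dd e (b + c) = Q.dd e b + Q.dd e c := by
  exact (congrArg (pullMap Q.P.a₀ Q.Ω e) (map_add (Q.d.app V) b c)).trans (map_add _ _ _)

theorem dd_mul {U₀ : Q.P.T₀.Opens} {V : Q.P.X.Opens} (e : U₀ ≤ Q.P.a₀ ⁻¹ᵁ V) (b c : Γ(Q.P.X, V)) :
    Q.dd e (b * c) = Q.P.a₀.appLE V U₀ e b • Q.dd e c + Q.P.a₀.appLE V U₀ e c • Q.dd e b := by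
  rw [GProb.dd, OmegaUnivLib.app_mul, map_add, pullMap_smul, pullMap_smul]
  rfl

theorem dd_res {U U' : Q.P.T₀.Opens} (hU : U' ≤ U) {V V' : Q.P.X.Opens} (hV : V' ≤ V)
    (e : U ≤ Q.P.a₀ ⁻¹ᵁ V) (e' : U' ≤ Q.P.a₀ ⁻¹ᵁ V') (b : Γ(Q.P.X, V)) :
    Q.F.presheaf.map (homOfLE hU).op (Q.dd e b) = Q.dd e' (Q.P.X.presheaf.map (homOfLE hV).op b) := by
  rw [GProb.dd, GProb.dd, OmegaUnivLib.app_res, pullMap_res Q.P.a₀ Q.Ω e hV hU e']

theorem span_d (r : Q.P.Ix) :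
    Submodule.span Γ(Q.P.X, r.V) (Set.range (fun b => Q.d.app r.V b)) = ⊤ := by
  letI := (Q.P.f.appLE r.W r.V r.VW).hom.toAlgebra
  obtain ⟨T, hT⟩ := OmegaUnivLib.exists_lin_of_der Q.d r.VW
  have hb := OmegaUnivLib.bijective_of_universal r.affW r.affV r.VW Q.univ T hT
  have h1 : Set.range (fun b => Q.d.app r.V b) = T '' Set.range (KaehlerDifferential.D Γ(Q.P.S, r.W) Γ(Q.P.X, r.V)) := by
    rw [← Set.range_comp]
    exact congrArg Set.range (funext fun b => (hT b).symm)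
  rw [h1, Submodule.span_image, KaehlerDifferential.span_range_derivation, Submodule.map_top,
    LinearMap.range_eq_top.mpr hb.2]

/-- Homomorphisms on an affine inside the preimage of a small affine are determined by their values on differentials. -/
theorem ev_ext (r : Q.P.Ix) {U₀ : Q.P.T₀.Opens} (hU₀ : IsAffineOpen U₀) (e : U₀ ≤ Q.P.a₀ ⁻¹ᵁ r.V)
    {s s' : Γ(Q.H, U₀)} (h : ∀ b, HomLib.ev s le_rfl (Q.dd e b) = HomLib.ev s' le_rfl (Q.dd e b)) : s = s' := by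
  haveI := isQCoh_F (Q := Q)
  haveI := OmegaUnivLib.isQCoh_of_universal Q.univ
  letI : Algebra Γ(Q.P.X, r.V) Γ(Q.P.T₀, U₀) := (Q.P.a₀.appLE r.V U₀ e).hom.toAlgebra
  letI := Module.compHom Γ(Q.F, U₀) (Q.P.a₀.appLE r.V U₀ e).hom
  letI := Module.compHom Γ(Q.P.N, U₀) (Q.P.a₀.appLE r.V U₀ e).hom
  haveI : IsScalarTower Γ(Q.P.X, r.V) Γ(Q.P.T₀, U₀) Γ(Q.F, U₀) := .of_algebraMap_smul fun _ _ => rfl
  haveI : IsScalarTower Γ(Q.P.X, r.V) Γ(Q.P.T₀, U₀) Γ(Q.P.N, U₀) := .of_algebraMap_smul fun _ _ => rfl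
  refine HomLib.ev_injective hU₀ ((PullbackMod.isBaseChange_pullMapL Q.P.a₀ Q.Ω r.affV hU₀ e).algHom_ext
    _ _ fun m => ?_)
  have hm : m ∈ Submodule.span Γ(Q.P.X, r.V) (Set.range (fun b => Q.d.app r.V b)) := by
    rw [span_d r]; trivial
  induction hm using Submodule.span_induction with
  | mem y hy => obtain ⟨b, rfl⟩ := hy; exact h b
  | zero => rw [map_zero, map_zero, map_zero]
  | add y z _ _ hy hz => rw [map_add, map_add, map_add, hy, hz]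
  | smul c y _ hy =>
    rw [map_smul, ← algebraMap_smul Γ(Q.P.T₀, U₀), map_smul, map_smul]
    exact congrArg _ hy

/-- A derivation into the conormal sheaf gives a homomorphism. -/
theorem exists_ev (r : Q.P.Ix) (D : Γ(Q.P.X, r.V) →+ Γ(Q.P.N, Q.P.i ⁻¹ᵁ r.O))
    (hmul : ∀ b c, D (b * c) = Q.P.a₀.appLE r.V _ r.OV b • D c + Q.P.a₀.appLE r.V _ r.OV c • D b)
    (hbase : ∀ c, D (Q.P.f.appLE r.W r.V r.VW c) = 0) :
    ∃ s : Γ(Q.H, Q.P.i ⁻¹ᵁ r.O), ∀ b, HomLib.ev s le_rfl (Q.dd r.OV b) = D b := by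
  haveI := isQCoh_F (Q := Q)
  haveI := OmegaUnivLib.isQCoh_of_universal Q.univ
  let U₀ := Q.P.i ⁻¹ᵁ r.O
  letI : Algebra Γ(Q.P.X, r.V) Γ(Q.P.T₀, U₀) := (Q.P.a₀.appLE r.V U₀ r.OV).hom.toAlgebra
  letI := Module.compHom Γ(Q.F, U₀) (Q.P.a₀.appLE r.V U₀ r.OV).hom
  letI := Module.compHom Γ(Q.P.N, U₀) (Q.P.a₀.appLE r.V U₀ r.OV).hom
  haveI : IsScalarTower Γ(Q.P.X, r.V) Γ(Q.P.T₀, U₀) Γ(Q.F, U₀) := .of_algebraMap_smul fun _ _ => rfl
  haveI : IsScalarTower Γ(Q.P.X, r.V) Γ(Q.P.T₀, U₀) Γ(Q.P.N, U₀) := .of_algebraMap_smul fun _ _ => rfl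
  letI := (Q.P.f.appLE r.W r.V r.VW).hom.toAlgebra
  letI : Module Γ(Q.P.S, r.W) Γ(Q.P.N, U₀) :=
    Module.compHom _ ((Q.P.a₀.appLE r.V U₀ r.OV).hom.comp (Q.P.f.appLE r.W r.V r.VW).hom)
  haveI : IsScalarTower Γ(Q.P.S, r.W) Γ(Q.P.X, r.V) Γ(Q.P.N, U₀) := .of_algebraMap_smul fun _ _ => rfl
  obtain ⟨T, hT⟩ := OmegaUnivLib.exists_lin_of_der Q.d r.VW
  have hb := OmegaUnivLib.bijective_of_universal r.affW r.affV r.VW Q.univ T hT
  let δ : Derivation Γ(Q.P.S, r.W) Γ(Q.P.X, r.V) Γ(Q.P.N, U₀) := Derivation.mk'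
    { toFun := D
      map_add' := map_add D
      map_smul' := fun c b => by
        show D (Q.P.f.appLE r.W r.V r.VW c * b) = Q.P.a₀.appLE r.V U₀ r.OV (Q.P.f.appLE r.W r.V r.VW c) • D b
        rw [hmul, hbase, smul_zero, add_zero] }
    fun b c => hmul b c
  let l : Γ(Q.Ω, r.V) →ₗ[Γ(Q.P.X, r.V)] Γ(Q.P.N, U₀) :=
    δ.liftKaehlerDifferential ∘ₗ (LinearEquiv.ofBijective T hb).symm.toLinearMap
  have hbc := PullbackMod.isBaseChange_pullMapL Q.P.a₀ Q.Ω r.affV r.aff₀ r.OV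
  obtain ⟨s, hs⟩ := HomLib.ev_surjective r.aff₀ (N := Q.P.N) (M := Q.F) (hbc.lift l)
  refine ⟨s, fun b => ?_⟩
  rw [hs]
  refine (hbc.lift_eq l _).trans ?_
  show δ.liftKaehlerDifferential ((LinearEquiv.ofBijective T hb).symm (Q.d.app r.V b)) = _
  rw [(LinearEquiv.symm_apply_eq (e := LinearEquiv.ofBijective T hb)).mpr (hT b).symm,
    Derivation.liftKaehlerDifferential_comp_D]
  rfl

theorem cls_eq_zero {O : Q.P.T.Opens} (hO : IsAffineOpen O) {m : Γ(ClSub.idealMod Q.P.i.ker, O)}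
    (h : TanHilbLib.cls Q.P.i O m = 0) : m = 0 := by
  refine OmegaAffLib.idealSect_injective Q.P.i.ker O (((?_ : OmegaSh.idealSect Q.P.i.ker O m = 0)).trans (map_zero _).symm)
  have h2 := ((TanHilbLib.cls_spec Q.P.i hO).2 m).1 h
  rw [show RingHom.ker (Q.P.i.app O).hom * RingHom.ker (Q.P.i.app O).hom = ⊥ from
    (le_bot_iff.1 (Ideal.mul_le.2 fun x hx y hy => Ideal.mem_bot.2 (Q.P.sq ⟨O, hO⟩ x y hx hy)))] at h2
  exact Ideal.mem_bot.1 h2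

variable {O₁ O₂ O₃ : Q.P.T.Opens} (L : Q.P.Lift O₁) (L' : Q.P.Lift O₂) (L'' : Q.P.Lift O₃)

theorem res_idX {V : Q.P.X.Opens} (h : V ≤ V) (b : Γ(Q.P.X, V)) : Q.P.X.presheaf.map (homOfLE h).op b = b := by
  rw [Subsingleton.elim (homOfLE h).op (𝟙 (op V)), CategoryTheory.Functor.map_id]
  rfl

theorem res_idF {U : Q.P.T₀.Opens} (h : U ≤ U) (b : Γ(Q.F, U)) : Q.F.presheaf.map (homOfLE h).op b = b := by
  rw [Subsingleton.elim (homOfLE h).op (𝟙 (op U)), CategoryTheory.Functor.map_id]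
  rfl

/-- The value on differentials of the difference on an affine index. -/
def IsAt (r : Q.P.Ix) (h₁ : r.O ≤ O₁) (h₂ : r.O ≤ O₂) (s : Γ(Q.H, Q.P.i ⁻¹ᵁ r.O)) : Prop :=
  ∀ (b : Γ(Q.P.X, r.V)) (m : Γ(ClSub.idealMod Q.P.i.ker, r.O)),
    OmegaSh.idealSect Q.P.i.ker r.O m = L.φ h₁ r.OV b - L'.φ h₂ r.OV b →
      HomLib.ev s le_rfl (Q.dd r.OV b) = TanHilbLib.cls Q.P.i r.O m

theorem exists_m (r : Q.P.Ix) (h₁ : r.O ≤ O₁) (h₂ : r.O ≤ O₂) (b : Γ(Q.P.X, r.V)) :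
    ∃ m : Γ(ClSub.idealMod Q.P.i.ker, r.O),
      OmegaSh.idealSect Q.P.i.ker r.O m = L.φ h₁ r.OV b - L'.φ h₂ r.OV b :=
  ConormalLib.exists_idealSect_eq Q.P.i r.O _ (by rw [map_sub, L.φ_mod_apply, L'.φ_mod_apply, sub_self])

variable {L L'} in
theorem IsAt.unique {r : Q.P.Ix} {h₁ : r.O ≤ O₁} {h₂ : r.O ≤ O₂} {s s' : Γ(Q.H, Q.P.i ⁻¹ᵁ r.O)}
    (hs : IsAt L L' r h₁ h₂ s) (hs' : IsAt L L' r h₁ h₂ s') : s = s' :=
  ev_ext r r.aff₀ r.OV fun b => by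
    obtain ⟨m, hm⟩ := exists_m L L' r h₁ h₂ b
    rw [hs b m hm, hs' b m hm]

theorem exists_isAt (r : Q.P.Ix) (h₁ : r.O ≤ O₁) (h₂ : r.O ≤ O₂) : ∃ s, IsAt L L' r h₁ h₂ s := by
  choose m hm using exists_m L L' r h₁ h₂
  have hinj : ∀ {x y}, OmegaSh.idealSect Q.P.i.ker r.O x = OmegaSh.idealSect Q.P.i.ker r.O y → x = y :=
    fun h => OmegaAffLib.idealSect_injective _ _ h
  let D : Γ(Q.P.X, r.V) →+ Γ(Q.P.N, Q.P.i ⁻¹ᵁ r.O) := AddMonoidHom.mk' (fun b => TanHilbLib.cls Q.P.i r.O (m b))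
    fun b c => by
      rw [← map_add]
      refine congrArg _ (hinj ?_)
      rw [map_add, hm, hm, hm, map_add, map_add]
      ring
  obtain ⟨s, hs⟩ := exists_ev r D (fun b c => by
      show TanHilbLib.cls Q.P.i r.O (m (b * c)) =
        Q.P.a₀.appLE r.V _ r.OV b • TanHilbLib.cls Q.P.i r.O (m c) + Q.P.a₀.appLE r.V _ r.OV c • TanHilbLib.cls Q.P.i r.O (m b)
      rw [← L.φ_mod_apply h₁ r.OV b, ← L'.φ_mod_apply h₂ r.OV c, ← TanHilbLib.cls_smul, ← TanHilbLib.cls_smul,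
        ← map_add]
      refine congrArg _ (hinj ?_)
      rw [map_add, OmegaAffLib.idealSect_smul, OmegaAffLib.idealSect_smul, hm, hm, hm, map_mul, map_mul]
      ring)
    (fun c => by
      show TanHilbLib.cls Q.P.i r.O (m _) = 0
      rw [show m (Q.P.f.appLE r.W r.V r.VW c) = 0 from hinj ?_, map_zero]
      rw [map_zero, hm, sub_eq_zero, ← CommRingCat.comp_apply, ← CommRingCat.comp_apply,
        L.φ_base h₁ r.OV r.VW r.OW, L'.φ_base h₂ r.OV r.VW r.OW])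
  refine ⟨s, fun b m' hm' => ?_⟩
  rw [hs b]
  exact congrArg (TanHilbLib.cls Q.P.i r.O) (hinj ((hm b).trans hm'.symm))

variable {L L'} in
theorem IsAt.res {r q : Q.P.Ix} {h₁ : r.O ≤ O₁} {h₂ : r.O ≤ O₂} {s : Γ(Q.H, Q.P.i ⁻¹ᵁ r.O)} {t : Γ(Q.H, Q.P.i ⁻¹ᵁ q.O)}
    (hO : q.O ≤ r.O) (hV : q.V ≤ r.V) (hs : IsAt L L' r h₁ h₂ s) (ht : IsAt L L' q (hO.trans h₁) (hO.trans h₂) t) :
    rH (Q.P.i.preimage_mono hO) s = t := by
  have e : Q.P.i ⁻¹ᵁ q.O ≤ Q.P.a₀ ⁻¹ᵁ r.V := q.OV.trans (Q.P.a₀.preimage_mono hV)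
  refine ev_ext r q.aff₀ e fun b => ?_
  obtain ⟨m, hm⟩ := exists_m L L' r h₁ h₂ b
  rw [ev_rH]
  have h1 : Q.dd e b = Q.F.presheaf.map (homOfLE (Q.P.i.preimage_mono hO)).op (Q.dd r.OV b) := by
    rw [dd_res (Q.P.i.preimage_mono hO) le_rfl r.OV e b]
    exact congrArg (Q.dd e) (res_idX (le_refl r.V) b).symm
  have h2 : Q.dd e b = Q.dd q.OV (Q.P.X.presheaf.map (homOfLE hV).op b) := by
    rw [← dd_res (le_refl (Q.P.i ⁻¹ᵁ q.O)) hV e q.OV b]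
    exact (res_idF (le_refl (Q.P.i ⁻¹ᵁ q.O)) _).symm
  rw [h1, HomLib.ev_res s le_rfl (Q.P.i.preimage_mono hO), hs b m hm, TanHilbLib.cls_res, ← h1, h2]
  refine (ht _ _ ?_).symm
  rw [ConormalLib.idealSect_res, hm, map_sub, L.φ_res_apply h₁ hO hV r.OV q.OV,
    L'.φ_res_apply h₂ hO hV r.OV q.OV]

/-- The difference of two lifts on an open. -/
def IsDiff {U : Q.P.T.Opens} (h₁ : U ≤ O₁) (h₂ : U ≤ O₂) (s : Γ(Q.H, Q.P.i ⁻¹ᵁ U)) : Prop :=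
  ∀ (r : Q.P.Ix) (hr : r.O ≤ U), IsAt L L' r (hr.trans h₁) (hr.trans h₂) (rH (Q.P.i.preimage_mono hr) s)

/-- Sections of the sheaf of homomorphisms are tested on small indices. -/
theorem eq_of_ix {U : Q.P.T.Opens} {V : Q.P.X.Opens} (hV : Q.P.i ⁻¹ᵁ U ≤ Q.P.a₀ ⁻¹ᵁ V) {s s' : Γ(Q.H, Q.P.i ⁻¹ᵁ U)}
    (h : ∀ (r : Q.P.Ix) (hr : r.O ≤ U), r.V ≤ V → rH (Q.P.i.preimage_mono hr) s = rH (Q.P.i.preimage_mono hr) s') :
    s = s' := by
  choose r hr hrU hrV using fun z : (Q.P.i ⁻¹ᵁ U : Q.P.T₀.Opens) => Q.P.exists_ix z.1 (show Q.P.i z.1 ∈ U from z.2)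
    (show Q.P.a₀ z.1 ∈ V from hV z.2)
  exact TopCat.Sheaf.eq_of_locally_eq' (⟨Q.H.presheaf, Q.H.isSheaf⟩ : TopCat.Sheaf Ab.{u} Q.P.T₀.carrier)
    (fun z => Q.P.i ⁻¹ᵁ (r z).O) (Q.P.i ⁻¹ᵁ U) (fun z => homOfLE (Q.P.i.preimage_mono (hrU z)))
    (fun z hz => Opens.mem_iSup.2 ⟨⟨z, hz⟩, hr ⟨z, hz⟩⟩) s s' fun z => h (r z) (hrU z) (hrV z)

theorem top_le {U : Q.P.T.Opens} : Q.P.i ⁻¹ᵁ U ≤ Q.P.a₀ ⁻¹ᵁ (⊤ : Q.P.X.Opens) := fun _ _ => trivial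

theorem rH_rfl {U : Q.P.T₀.Opens} (h : U ≤ U) (s : Γ(Q.H, U)) : rH h s = s := by
  show Q.H.presheaf.map (homOfLE h).op s = s
  rw [Subsingleton.elim (homOfLE h).op (𝟙 (op U)), CategoryTheory.Functor.map_id]
  rfl

variable {L L' L''} in
theorem IsDiff.unique {U : Q.P.T.Opens} {h₁ : U ≤ O₁} {h₂ : U ≤ O₂} {s s' : Γ(Q.H, Q.P.i ⁻¹ᵁ U)}
    (hs : IsDiff L L' h₁ h₂ s) (hs' : IsDiff L L' h₁ h₂ s') : s = s' :=
  eq_of_ix top_le fun r hr _ => (hs r hr).unique (hs' r hr)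

theorem exists_isDiff {U : Q.P.T.Opens} (h₁ : U ≤ O₁) (h₂ : U ≤ O₂) : ∃ s, IsDiff L L' h₁ h₂ s := by
  let J := {r : Q.P.Ix // r.O ≤ U}
  choose t ht using fun r : J => exists_isAt L L' r.1 (r.2.trans h₁) (r.2.trans h₂)
  have hcomp : ∀ p q : J, rH (Q.P.i.preimage_mono (inf_le_left : p.1.O ⊓ q.1.O ≤ p.1.O)) (t p) =
      rH (Q.P.i.preimage_mono (inf_le_right : p.1.O ⊓ q.1.O ≤ q.1.O)) (t q) := fun p q => by
    refine eq_of_ix (U := p.1.O ⊓ q.1.O) (V := p.1.V ⊓ q.1.V) (fun z hz => ⟨p.1.OV hz.1, q.1.OV hz.2⟩) fun r hr hrV => ?_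
    rw [rH_rH, rH_rH]
    exact (IsAt.res (hr.trans inf_le_left) (hrV.trans inf_le_left) (ht p) (ht ⟨r, (hr.trans inf_le_left).trans p.2⟩)).trans
      (IsAt.res (hr.trans inf_le_right) (hrV.trans inf_le_right) (ht q) (ht ⟨r, (hr.trans inf_le_left).trans p.2⟩)).symm
  obtain ⟨s, hs, -⟩ := TopCat.Sheaf.existsUnique_gluing'
    (⟨Q.H.presheaf, Q.H.isSheaf⟩ : TopCat.Sheaf Ab.{u} Q.P.T₀.carrier) (fun r : J => Q.P.i ⁻¹ᵁ r.1.O) (Q.P.i ⁻¹ᵁ U)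
    (fun r => homOfLE (Q.P.i.preimage_mono r.2))
    (fun z hz => by
      obtain ⟨r, hzr, hrU, -⟩ := Q.P.exists_ix z (show Q.P.i z ∈ U from hz) (show Q.P.a₀ z ∈ (⊤ : Q.P.X.Opens) from trivial)
      exact Opens.mem_iSup.2 ⟨⟨r, hrU⟩, hzr⟩) t (fun p q => hcomp p q)
  exact ⟨s, fun r hr => (show rH _ s = t ⟨r, hr⟩ from hs ⟨r, hr⟩) ▸ ht ⟨r, hr⟩⟩

variable {L L' L''} in
theorem IsDiff.res {U U' : Q.P.T.Opens} {h₁ : U ≤ O₁} {h₂ : U ≤ O₂} {s : Γ(Q.H, Q.P.i ⁻¹ᵁ U)} (h : U' ≤ U)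
    (hs : IsDiff L L' h₁ h₂ s) : IsDiff L L' (h.trans h₁) (h.trans h₂) (rH (Q.P.i.preimage_mono h) s) := fun r hr => by
  rw [rH_rH]
  exact hs r (hr.trans h)

variable {L L' L''} in
theorem IsDiff.add {U : Q.P.T.Opens} {h₁ : U ≤ O₁} {h₂ : U ≤ O₂} {h₃ : U ≤ O₃} {s s' : Γ(Q.H, Q.P.i ⁻¹ᵁ U)}
    (hs : IsDiff L L' h₁ h₂ s) (hs' : IsDiff L' L'' h₂ h₃ s') : IsDiff L L'' h₁ h₃ (s + s') := fun r hr b m hm => by
  obtain ⟨m₁, hm₁⟩ := exists_m L L' r (hr.trans h₁) (hr.trans h₂) b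
  obtain ⟨m₂, hm₂⟩ := exists_m L' L'' r (hr.trans h₂) (hr.trans h₃) b
  have hm' : m = m₁ + m₂ := OmegaAffLib.idealSect_injective Q.P.i.ker r.O (by
    rw [map_add, hm, hm₁, hm₂]; ring)
  rw [show rH (Q.P.i.preimage_mono hr) (s + s') = rH (Q.P.i.preimage_mono hr) s + rH (Q.P.i.preimage_mono hr) s' from
    map_add (Q.H.presheaf.map (homOfLE (Q.P.i.preimage_mono hr)).op).hom s s', HomLib.ev_add, LinearMap.add_apply,
    hs r hr b m₁ hm₁, hs' r hr b m₂ hm₂, hm', map_add]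

variable {L L' L''} in
/-- Lifts with zero difference agree. -/
theorem IsDiff.eq_of_zero {U : Q.P.T.Opens} {h₁ : U ≤ O₁} {h₂ : U ≤ O₂} (hs : IsDiff L L' h₁ h₂ 0) :
    Q.P.T.homOfLE h₁ ≫ L.h = Q.P.T.homOfLE h₂ ≫ L'.h :=
  Q.P.lift_ext L L' h₁ h₂ fun r hr => CommRingCat.hom_ext (RingHom.ext fun b => sub_eq_zero.1 (by
    obtain ⟨m, hm⟩ := exists_m L L' r (hr.trans h₁) (hr.trans h₂) b
    have h := hs r hr b m hm
    rw [show rH (Q.P.i.preimage_mono hr) (0 : Γ(Q.H, Q.P.i ⁻¹ᵁ U)) = 0 from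
      map_zero (Q.H.presheaf.map (homOfLE (Q.P.i.preimage_mono hr)).op).hom] at h
    have h0 : HomLib.ev (0 : Γ(Q.H, Q.P.i ⁻¹ᵁ r.O)) le_rfl = 0 := by
      have h2 := HomLib.ev_add (0 : Γ(Q.H, Q.P.i ⁻¹ᵁ r.O)) 0 (le_refl (Q.P.i ⁻¹ᵁ r.O))
      rw [add_zero] at h2
      exact left_eq_add.1 h2
    rw [h0, LinearMap.zero_apply] at h
    show L.φ _ r.OV b - L'.φ _ r.OV b = 0
    rw [← hm, cls_eq_zero r.affO h.symm, map_zero]))

/-- Changing a lift by a section over an affine index. -/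
theorem exists_act (r : Q.P.Ix) (h₁ : r.O ≤ O₁) (t : Γ(Q.H, Q.P.i ⁻¹ᵁ r.O)) :
    ∃ M : Q.P.Lift r.O, IsDiff L M h₁ le_rfl t := by
  have hinj : ∀ {x y}, TanHilbLib.cls Q.P.i r.O x = TanHilbLib.cls Q.P.i r.O y → x = y := fun {x y} h =>
    sub_eq_zero.1 (cls_eq_zero r.affO (by rw [map_sub, h, sub_self]))
  choose m hm using fun b => (TanHilbLib.cls_spec Q.P.i r.affO).1 (HomLib.ev t le_rfl (Q.dd r.OV b))
  let μ : Γ(Q.P.X, r.V) → Γ(Q.P.T, r.O) := fun b => OmegaSh.idealSect Q.P.i.ker r.O (m b)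
  have hmadd : ∀ b c, μ (b + c) = μ b + μ c := fun b c => by
    show OmegaSh.idealSect Q.P.i.ker r.O _ = _ + _
    rw [← map_add]
    exact congrArg _ (hinj (by rw [map_add, hm, hm, hm, dd_add, map_add]))
  have hμ0 : ∀ b, Q.P.i.app r.O (μ b) = 0 := fun b => ConormalLib.app_idealSect Q.P.i r.O _
  have hμμ : ∀ b c, μ b * μ c = 0 := fun b c => Q.P.sq ⟨r.O, r.affO⟩ _ _ (hμ0 b) (hμ0 c)
  have hmmul : ∀ b c, μ (b * c) = L.φ h₁ r.OV b * μ c + L.φ h₁ r.OV c * μ b := fun b c => by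
    show OmegaSh.idealSect Q.P.i.ker r.O _ = _
    rw [← OmegaAffLib.idealSect_smul, ← OmegaAffLib.idealSect_smul, ← map_add]
    exact congrArg _ (hinj (by
      rw [map_add, TanHilbLib.cls_smul, TanHilbLib.cls_smul, hm, hm, hm, L.φ_mod_apply, L.φ_mod_apply, dd_mul,
        map_add, map_smul, map_smul]))
  have hmb : ∀ c, μ (Q.P.f.appLE r.W r.V r.VW c) = 0 := fun c => by
    show OmegaSh.idealSect Q.P.i.ker r.O _ = 0
    rw [show m (Q.P.f.appLE r.W r.V r.VW c) = 0 from hinj ?_, map_zero]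
    rw [hm, map_zero, GProb.dd, OmegaUnivLib.app_appLE, map_zero, map_zero]
  have h1 : μ 1 = 0 := by
    have := hmb 1
    rwa [map_one] at this
  let ψ : Γ(Q.P.X, r.V) ⟶ Γ(Q.P.T, r.O) := CommRingCat.ofHom
    { toFun := fun b => L.φ h₁ r.OV b - μ b
      map_one' := by rw [map_one, h1, sub_zero]
      map_mul' := fun b c => by
        rw [map_mul, hmmul]
        have := hμμ b c
        linear_combination -this
      map_zero' := by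
        rw [map_zero]
        have := hmadd 0 0
        rw [add_zero, left_eq_add] at this
        rw [this, sub_zero]
      map_add' := fun b c => by rw [map_add, hmadd]; ring }
  obtain ⟨M, hM⟩ := Q.P.exists_lift r ψ (CommRingCat.hom_ext (RingHom.ext fun c => by
      show L.φ h₁ r.OV (Q.P.f.appLE r.W r.V r.VW c) - μ (Q.P.f.appLE r.W r.V r.VW c) = Q.P.a.appLE r.W r.O r.OW c
      rw [hmb, sub_zero, ← CommRingCat.comp_apply, L.φ_base h₁ r.OV r.VW r.OW]))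
    (CommRingCat.hom_ext (RingHom.ext fun b => by
      show Q.P.i.app r.O (L.φ h₁ r.OV b - μ b) = Q.P.a₀.appLE r.V _ r.OV b
      rw [map_sub, hμ0, sub_zero, L.φ_mod_apply]))
  obtain ⟨d, hd⟩ := exists_isDiff L M h₁ le_rfl
  have hdt : d = t := by
    refine ((rH_rfl _ d).symm.trans ((hd r le_rfl).unique ?_))
    intro b m' hm'
    have he : OmegaSh.idealSect Q.P.i.ker r.O m' = μ b := by
      rw [hm']
      show L.φ h₁ r.OV b - M.φ le_rfl r.OV b = _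
      rw [hM]
      show L.φ h₁ r.OV b - (L.φ h₁ r.OV b - μ b) = μ b
      ring
    rw [show m' = m b from OmegaAffLib.idealSect_injective Q.P.i.ker r.O he, hm]
  exact ⟨M, hdt ▸ hd⟩

end Groth.Agent.InfLiftGenLib
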