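import Groth.Agent.InfLiftGenLib.Diff
import Groth.Agent.InfLiftLib.Torsor
import Groth.Agent.OmegaExistLib.Basic

/-!
Local lifts glue over an affine thickening, for any morphism locally of finite presentation.
-/

set_option autoImplicit false
set_option backward.isDefEq.respectTransparency false
set_option backward.isDefEq.respectTransparency.types false
set_option linter.style.haveILetI false

universe u

open CategoryTheory CategoryTheory.Limits AlgebraicGeometry TopologicalSpace Opposite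
open Groth.Agent.CohBase Groth.Agent.InfLiftLib

noncomputable section

namespace Groth.Agent.InfLiftGenLib

variable {Q : GProb.{u}}

/-- The cohomological criterion. -/
theorem exists_lift_of_subsingleton 
    (hloc : ∀ z : Q.P.T₀, ∃ (O : Q.P.T.Opens) (_ : Q.P.Lift O), Q.P.i z ∈ O)
    [Subsingleton (Coh.HH Q.P.T₀ Q.H 1)] : ∃ b' : Q.P.T ⟶ Q.P.X, b' ≫ Q.P.f = Q.P.a ∧ Q.P.i ≫ b' = Q.P.a₀ := by
  choose O L hO using hloc
  choose r hr hrO hrV using fun z => Q.P.exists_ix z (hO z) (show Q.P.a₀ z ∈ (⊤ : Q.P.X.Opens) from trivial)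
  let W : Q.P.T₀ → Q.P.T₀.Opens := fun z => Q.P.i ⁻¹ᵁ (r z).O
  choose c hc using fun a b => exists_isDiff (L a) (L b)
    (inf_le_left.trans (hrO a) : (r a).O ⊓ (r b).O ≤ O a) (inf_le_right.trans (hrO b))
  let F : CohBase.AbSh Q.P.T₀ := Coh.toAb Q.H
  haveI : Subsingleton (CohBase.HU (⊤ : Opens Q.P.T₀) F 1) := (CohBase.HHEquiv Q.H 1).symm.toEquiv.subsingleton
  obtain ⟨h, hh⟩ := ObsLiftLib.exists_coboundary W (fun z _ => Opens.mem_iSup.mpr ⟨z, hr z⟩) F c (fun a b d => by
    show rH _ (c a b) + rH _ (c b d) = rH _ (c a d)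
    have h₁ := (hc a b).res (U' := (r a).O ⊓ (r b).O ⊓ (r d).O) inf_le_left
    have h₂ := (hc b d).res (U' := (r a).O ⊓ (r b).O ⊓ (r d).O) (le_inf (inf_le_left.trans inf_le_right) inf_le_right)
    have h₃ := (hc a d).res (U' := (r a).O ⊓ (r b).O ⊓ (r d).O) (le_inf (inf_le_left.trans inf_le_left) inf_le_right)
    exact (h₁.add h₂).unique h₃)
  choose M hM using fun z => exists_act (L z) (r z) (hrO z) (-(h z : Γ(Q.H, Q.P.i ⁻¹ᵁ (r z).O)))
  refine Q.P.exists_of_cover (fun z => (r z).O) (fun x _ => ?_) M fun a b => ?_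
  · obtain ⟨z, rfl⟩ := Q.P.surj x
    exact Opens.mem_iSup.2 ⟨z, hr z⟩
  · obtain ⟨d, hd⟩ := exists_isDiff (M a) (M b) (inf_le_left : (r a).O ⊓ (r b).O ≤ (r a).O) inf_le_right
    have key := ((((hM a).res inf_le_left).add hd).unique ((hc a b).add ((hM b).res inf_le_right)))
    have hab : rH (Q.P.i.preimage_mono (inf_le_right : (r a).O ⊓ (r b).O ≤ (r b).O)) (h b) -
        rH (Q.P.i.preimage_mono (inf_le_left : (r a).O ⊓ (r b).O ≤ (r a).O)) (h a) = c a b := hh a b
    have hd0 : d = 0 := by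
      have hn : ∀ {U U' : Q.P.T₀.Opens} (g : U' ≤ U) (x : Γ(Q.H, U)), rH g (-x) = -rH g x := fun g x =>
        map_neg (Q.H.presheaf.map (homOfLE g).op).hom x
      rw [hn, hn, ← hab] at key
      have k2 := congrArg (fun t => rH (Q.P.i.preimage_mono (inf_le_left : (r a).O ⊓ (r b).O ≤ (r a).O)) (h a) + t) key
      simp only [add_neg_cancel_left] at k2
      rw [k2]
      abel
    exact (hd0 ▸ hd).eq_of_zero

/-- Over an affine thickening of a morphism locally of finite presentation local lifts give a global one. -/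
theorem exists_lift_affine (P : Prob.{u}) [LocallyOfFinitePresentation P.f] [IsAffine P.T₀]
    (hloc : ∀ z : P.T₀, ∃ (O : P.T.Opens) (_ : P.Lift O), P.i z ∈ O) :
    ∃ b' : P.T ⟶ P.X, b' ≫ P.f = P.a ∧ P.i ≫ b' = P.a₀ := by
  obtain ⟨Ω, d, hd⟩ := OmegaExistLib.exists_universal P.f
  let Q : GProb.{u} := ⟨P, Ω, d, hd⟩
  haveI : Coh.IsQCoh Ω := OmegaUnivLib.isQCoh_of_universal hd
  haveI := isQCoh_F (Q := Q)
  haveI := OmegaAffLib.isQCoh_idealMod P.i.ker
  haveI : Coh.IsQCoh P.N := PullbackMod.isQCoh_pullback P.i (ClSub.idealMod P.i.ker)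
  haveI : Coh.IsQCoh Q.H := HomLib.isQCoh_homSh_of_isFP
    (PullbackMod.isFP_pullback P.a₀ Ω (OmegaUnivLib.isFP_of_universal hd)) ‹_›
  haveI : Subsingleton (Coh.HH Q.P.T₀ Q.H 1) :=
    CohBase.subsingleton_HH Q.H _ (CohBase.affine_vanishing Q.H (isAffineOpen_top P.T₀) 0)
  exact exists_lift_of_subsingleton (Q := Q) hloc

end Groth.Agent.InfLiftGenLib
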